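import Groth.Agent.H10Coh.HHSeq
import Groth.Agent.H10Coh.OpenSpec
import Groth.Agent.H10Coh.TildeExact
import Groth.Agent.H10Coh.Pn.Results
import Groth.Agent.H28NT.Connectedness
import Groth.Agent.H4PSect.Punctured
import Groth.Agent.H4LC.Artinian
import Groth.Agent.H4LC.Torsion
import Groth.Agent.H4Depth.ExtBasic

/-!
# Artinian cohomology of the punctured spectrum
-/

set_option autoImplicit false
set_option linter.style.haveILetI false
set_option linter.unusedSectionVars false
set_option backward.isDefEq.respectTransparency false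

universe u

open CategoryTheory CategoryTheory.Limits AlgebraicGeometry Opposite TopologicalSpace IsLocalRing
open Groth.Agent.H10Coh Groth.Agent.LeadFF

namespace Groth.Agent.H4Punct

theorem additive_tilde' (R : CommRingCat.{u}) : (tilde.functor R).Additive := inferInstance

instance additive_tilde_of (A : Type u) [CommRing A] : (tilde.functor (CommRingCat.of A)).Additive :=
  additive_tilde' _


variable (A : Type u) [CommRing A] [IsNoetherianRing A] [IsLocalRing A]

/-- The punctured spectrum. -/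
noncomputable abbrev U : (Spec (CommRingCat.of A)).Opens := LocCoh.puncturedOpen A (maximalIdeal A)

/-- Cohomology of `M~` on the punctured spectrum. -/
noncomputable abbrev G (M : ModuleCat.{u} A) : (U A : Scheme.{u}).Modules :=
  (tilde (R := CommRingCat.of A) M).restrict (U A).ι

noncomputable abbrev W : (Spec (CommRingCat.of A)).Opens := (U A).ι ''ᵁ ⊤

theorem resTop_toGlobal (a : A) (O : (U A : Scheme.{u}).Opens) :
    ((U A).ι.appIso O).inv (Coh.resTop (U A : Scheme.{u}) (op O)
      (Coh.toGlobal ((U A : Scheme.{u}) ↘ Spec (CommRingCat.of A)) a)) =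
    (Spec (CommRingCat.of A)).presheaf.map ((U A).ι ''ᵁ O).leTop.op
      ((Scheme.ΓSpecIso (CommRingCat.of A)).inv a) := by
  have h : (U A).ι.app ⊤ ≫ (U A : Scheme.{u}).presheaf.map (homOfLE (le_top : O ≤ ⊤)).op ≫
      ((U A).ι.appIso O).inv = (Spec (CommRingCat.of A)).presheaf.map ((U A).ι ''ᵁ O).leTop.op := by
    rw [Scheme.Hom.appIso_inv_naturality, ← Category.assoc]
    refine (congrArg (· ≫ _) ((U A).ι.app_appIso_inv ⊤)).trans ?_
    exact (Functor.map_comp _ _ _).symm.trans rfl
  exact congrArg (fun φ => φ.hom ((Scheme.ΓSpecIso (CommRingCat.of A)).inv a)) h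

theorem app_smul (M : ModuleCat.{u} A) (a : A) (O : (U A : Scheme.{u}).Opens) (y : Γ(G A M, O)) :
    ((show Γ(U A, O) from Coh.resTop (U A : Scheme.{u}) (op O)
      (Coh.toGlobal ((U A : Scheme.{u}) ↘ Spec (CommRingCat.of A)) a)) • y : Γ(G A M, O)) =
      (show H4PSect.S (R := CommRingCat.of A) M ((U A).ι ''ᵁ O) from
        a • (show H4PSect.S (R := CommRingCat.of A) M ((U A).ι ''ᵁ O) from y)) :=
  congrArg (· • (show Γ(tilde (R := CommRingCat.of A) M, (U A).ι ''ᵁ O) from y)) (resTop_toGlobal A a O)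

theorem tilde_map_smul_id {R : CommRingCat.{u}} (M : ModuleCat.{u} R) (a : R) (W' : (Spec R).Opens)
    (y : H4PSect.S M W') :
    ((modulesSpecToSheaf ).map (tilde.map 
      (ModuleCat.ofHom (a • LinearMap.id : M →ₗ[R] M)))).hom.app (op W') y = a • y := by
  let f := ModuleCat.ofHom (a • LinearMap.id : M →ₗ[R] M)
  let ψ := fun V => ((modulesSpecToSheaf ).map (tilde.map f)).hom.app (op V)
  show (ψ W').hom y = a • y
  rw [← sub_eq_zero]
  refine H4PSect.eq_zero_of_cover M _ fun p hp => ?_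
  obtain ⟨_, ⟨_, ⟨g, rfl⟩, rfl⟩, hpg, hle⟩ :=
    PrimeSpectrum.isBasis_basic_opens.exists_subset_of_mem_open hp W'.isOpen
  refine ⟨_, hle, hpg, ?_⟩
  have hn : H4PSect.res M hle ((ψ W').hom y) =
      (ψ _).hom (H4PSect.res M hle y) :=
    (ConcreteCategory.congr_hom (((modulesSpecToSheaf ).map
      (tilde.map f)).hom.naturality (homOfLE hle).op) y).symm
  rw [map_sub, map_smul, hn]
  obtain ⟨⟨m, ⟨_, j, rfl⟩⟩, hm⟩ := IsLocalizedModule.surj (Submonoid.powers g)
    (tilde.toOpen M (PrimeSpectrum.basicOpen g)).hom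
    (H4PSect.res M hle y)
  refine H4PSect.eq_zero_of_pow_smul M le_rfl j _ ?_
  replace hm : g ^ j • H4PSect.res M hle y =
    (tilde.toOpen M (PrimeSpectrum.basicOpen g)).hom m := hm
  rw [smul_sub, smul_comm, hm, ← map_smul (ψ _).hom, hm, sub_eq_zero, ← map_smul]
  exact congr($((tilde.toOpen_map_app f (PrimeSpectrum.basicOpen g))) m)

theorem seq_f_eq_smulMod (M : ModuleCat.{u} A) (a : A) :
    (Scheme.Modules.restrictFunctor (U A).ι).map (tilde.map (R := CommRingCat.of A)
      (ModuleCat.ofHom (a • LinearMap.id : M →ₗ[A] M))) = Formal.smulMod A (G A M) a :=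
  Scheme.Modules.hom_ext _ _ fun O => AddCommGrpCat.ext fun y =>
    (tilde_map_smul_id (R := CommRingCat.of A) M a ((U A).ι ''ᵁ O) y).trans (app_smul A M a O y).symm

/-- `H⁰` as sections. -/
noncomputable def E (M : ModuleCat.{u} A) :
    Coh.HH (U A) (G A M) 0 ≃ₗ[A] H4PSect.S (R := CommRingCat.of A) M (W A) :=
  { (HH0Equiv (G A M) : Coh.HH (U A) (G A M) 0 ≃+ H4PSect.S (R := CommRingCat.of A) M (W A)) with
    map_smul' := fun a x => (HH0Equiv_smul (G A M)
      (Coh.toGlobal ((U A : Scheme.{u}) ↘ Spec (CommRingCat.of A)) a) x).trans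
      ((congrArg (· • _) (ConcreteCategory.congr_hom ((U A : Scheme.{u}).presheaf.map_id (op ⊤)) _).symm).trans (app_smul A M a ⊤ _)) }

/-- Global elements as `H⁰` classes. -/
noncomputable def τ (M : ModuleCat.{u} A) : M →ₗ[A] Coh.HH (U A) (G A M) 0 :=
  (E A M).symm.toLinearMap ∘ₗ (tilde.toOpen (R := CommRingCat.of A) M (W A)).hom

theorem τ_natural {M N : ModuleCat.{u} A} (f : M ⟶ N) (m : M) :
    Hm ((Scheme.Modules.restrictFunctor (U A).ι).map (tilde.map (R := CommRingCat.of A) f)) 0 (τ A M m) =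
      τ A N (f.hom m) := by
  apply (E A N).injective
  refine (H28NT.HH0Equiv_map _ (τ A M m)).trans ?_
  refine Eq.trans ?_ ((E A N).apply_symm_apply _).symm
  refine (congrArg _ ((E A M).apply_symm_apply _)).trans ?_
  exact congr($((tilde.toOpen_map_app (R := CommRingCat.of A) f (W A))) m)

theorem W_eq : W A = U A := by simp [W]

theorem iSup_torsion_S {W' : (Spec (CommRingCat.of A)).Opens} (h : W' = U A) (M : ModuleCat.{u} A)
    (x : H4PSect.S (R := CommRingCat.of A) M W') (hx : ∀ r ∈ maximalIdeal A, r • x = 0) : x = 0 :=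
  H4PSect.eq_zero_on_of_killed (R := CommRingCat.of A) (maximalIdeal A) M h.le 1 x
    (fun r hr => hx r (by rwa [pow_one] at hr))

theorem torsion_coker {W' : (Spec (CommRingCat.of A)).Opens} (h : W' = U A) (M : ModuleCat.{u} A)
    (x : H4PSect.S (R := CommRingCat.of A) M W') : ∃ n : ℕ, ∀ r ∈ maximalIdeal A ^ n,
      r • x ∈ LinearMap.range (tilde.toOpen (R := CommRingCat.of A) M W').hom := by
  subst h
  obtain ⟨n, hn⟩ := H4PSect.isPowerTorsion_coker_toOpen (R := CommRingCat.of A) (maximalIdeal A) M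
    (Submodule.Quotient.mk x)
  exact ⟨n, fun r hr => (Submodule.Quotient.mk_eq_zero _).1 ((Submodule.Quotient.mk_smul _ r x).trans (hn r hr))⟩

theorem isArtinian_coker (M : ModuleCat.{u} A) [Module.Finite A M] :
    IsArtinian A (Coh.HH (U A) (G A M) 0 ⧸ LinearMap.range (τ A M)) := by
  rw [Groth.Agent.H4Matlis.isArtinian_iff]
  constructor
  · intro z
    obtain ⟨x, rfl⟩ := Submodule.Quotient.mk_surjective _ z
    obtain ⟨n, hn⟩ := torsion_coker A (W_eq A) M (E A M x)
    refine ⟨n, fun r hr => (Submodule.Quotient.mk_smul _ r x).symm.trans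
      ((Submodule.Quotient.mk_eq_zero _).2 ?_)⟩
    obtain ⟨m, hm⟩ := hn r hr
    refine ⟨m, (E A M).injective ?_⟩
    rw [map_smul, ← hm]
    exact (E A M).apply_symm_apply _
  · let L : Submodule A (Coh.HH (U A) (G A M) 0) :=
      Submodule.comap (Submodule.mkQ _) (LocCoh.torsionBy (maximalIdeal A)
        (Coh.HH (U A) (G A M) 0 ⧸ LinearMap.range (τ A M)))
    have hL : ∀ x : L, ∀ a : maximalIdeal A, (a : A) • (x : Coh.HH (U A) (G A M) 0) ∈ LinearMap.range (τ A M) :=
      fun x a => (Submodule.Quotient.mk_eq_zero _).1 ((Submodule.Quotient.mk_smul (LinearMap.range (τ A M)) (a : A)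
        (x : Coh.HH (U A) (G A M) 0)).trans ((Submodule.mem_torsionBySet_iff _ _).1 x.2 a))
    let Φ : L →ₗ[A] (maximalIdeal A →ₗ[A] LinearMap.range (τ A M)) :=
      { toFun := fun x =>
          { toFun := fun a => ⟨(a : A) • (x : Coh.HH (U A) (G A M) 0), hL x a⟩
            map_add' := fun a b => Subtype.ext (add_smul _ _ _)
            map_smul' := fun c a => Subtype.ext (mul_smul c (a : A) _) }
        map_add' := fun x y => LinearMap.ext fun a => Subtype.ext (smul_add _ _ _)
        map_smul' := fun c x => LinearMap.ext fun a => Subtype.ext (smul_comm _ c _) }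
    have hΦ : Function.Injective Φ := (injective_iff_map_eq_zero _).2 fun x hx => Subtype.ext ((E A M).injective (by
      rw [Submodule.coe_zero, map_zero]
      refine iSup_torsion_S A (W_eq A) M _ fun r hr => ?_
      rw [← map_smul]
      exact (congrArg (E A M) (congrArg Subtype.val (LinearMap.congr_fun hx ⟨r, hr⟩))).trans (map_zero _)))
    haveI : Module.Finite A (LinearMap.range (τ A M)) := Module.Finite.range _
    haveI : Module.Finite A L := Module.Finite.of_injective Φ hΦ
    let π : L →ₗ[A] LocCoh.torsionBy (maximalIdeal A) (Coh.HH (U A) (G A M) 0 ⧸ LinearMap.range (τ A M)) :=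
      ((Submodule.mkQ (LinearMap.range (τ A M))).comp L.subtype).codRestrict _ fun x => x.2
    have hπ : Function.Surjective π := fun z => by
      obtain ⟨x, hx⟩ := Submodule.mkQ_surjective _ z.1
      exact ⟨(⟨x, show Submodule.mkQ _ x ∈ _ from hx ▸ z.2⟩ : L), Subtype.ext hx⟩
    haveI := Module.Finite.of_surjective π hπ
    exact Module.Finite.of_restrictScalars_finite A (A ⧸ maximalIdeal A) _

theorem exists_res_eq_zero {R : CommRingCat.{u}} [IsNoetherianRing R] (a : Ideal R) (M : ModuleCat.{u} R)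
    (hM : LocCoh.IsPowerTorsion a M) (y : Spec R) (hy : y ∈ H4PSect.P a) (O : (Spec R).Opens) (hyO : y ∈ O)
    (s : H4PSect.S M O) :
    ∃ (V : (Spec R).Opens) (_ : y ∈ V) (hV : V ≤ O), H4PSect.res M hV s = 0 := by
  obtain ⟨_, ⟨_, ⟨f, rfl⟩, rfl⟩, hyf, hle⟩ :=
    PrimeSpectrum.isBasis_basic_opens.exists_subset_of_mem_open
      (show y ∈ O ⊓ H4PSect.P a from ⟨hyO, hy⟩) (O ⊓ H4PSect.P a).isOpen
  refine ⟨PrimeSpectrum.basicOpen f, hyf, fun z hz => (hle hz).1, ?_⟩
  obtain ⟨⟨m, ⟨_, j, rfl⟩⟩, hm⟩ := IsLocalizedModule.surj (Submonoid.powers f)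
    (tilde.toOpen M (PrimeSpectrum.basicOpen f)).hom (H4PSect.res M (fun z hz => (hle hz).1) s)
  refine H4PSect.eq_zero_of_pow_smul M le_rfl j _ ?_
  refine hm.trans ?_
  obtain ⟨n, hn⟩ := hM m
  refine H4PSect.eq_zero_on_of_killed a M
    (U := PrimeSpectrum.basicOpen f) (fun z hz => (hle hz).2) n _ fun r hr => ?_
  rw [← map_smul, hn r hr, map_zero]

theorem subsingleton_G_of_torsion (M : ModuleCat.{u} A) (hM : LocCoh.IsPowerTorsion (maximalIdeal A) M) :
    IsZero (G A M) := by
  refine restrict_subsingleton _ fun y hy O hyO s => ?_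
  obtain ⟨V, hyV, hV, h⟩ := exists_res_eq_zero (R := CommRingCat.of A) (maximalIdeal A) M hM y hy O hyO s
  refine ((tilde (R := CommRingCat.of A) M).presheaf.germ_res_apply (homOfLE hV) y hyV s).symm.trans ?_
  exact (congrArg _ h).trans (map_zero _)

attribute [local instance 10000] H10Coh.hasSheafifyAb H10Coh.hasWeakSheafifyAb H10Coh.hasExtAb H10Coh.enoughInjAb in
theorem dl_Hm_g' {X : Scheme.{u}} {S : ShortComplex X.Modules} (hS : S.ShortExact) (p : ℕ) (y : Coh.HH X S.X₂ p) :
    dl hS p (Hm S.g p y) = 0 :=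
  (Abelian.Ext.comp_assoc_of_second_deg_zero _ _ _ _).trans
    ((congrArg (fun z => y.comp z rfl) (H10Coh.shortExact_sh hS).comp_extClass).trans (Abelian.Ext.comp_zero y _ _ _ _))

/-- A short exact sequence of modules, on the punctured spectrum. -/
noncomputable abbrev seqG (S : ShortComplex (ModuleCat.{u} A)) : ShortComplex (U A : Scheme.{u}).Modules :=
  (S.map (tilde.functor (CommRingCat.of A))).map (Scheme.Modules.restrictFunctor (U A).ι)

theorem shortExact_seqG {S : ShortComplex (ModuleCat.{u} A)} (hS : S.ShortExact) : (seqG A S).ShortExact := by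
  haveI := @tilde_preservesFiniteLimits (CommRingCat.of A)
  haveI := @tilde_preservesFiniteColimits (CommRingCat.of A)
  haveI : PreservesFiniteLimits (Scheme.Modules.restrictFunctor (U A).ι) :=
    restrictFunctor_preservesFiniteLimits _
  exact (hS.map_of_exact (tilde.functor (CommRingCat.of A))).map_of_exact (Scheme.Modules.restrictFunctor (U A).ι)

theorem isPowerTorsion_HH_succ (M : ModuleCat.{u} A) (q : ℕ) :
    LocCoh.IsPowerTorsion (maximalIdeal A) (Coh.HH (U A) (G A M) (q + 1)) := by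
  intro x
  let X : Scheme.{u} := U A
  haveI : CompactSpace X := isCompact_iff_compactSpace.1 (NoetherianSpace.isCompact (U A : Set (Spec (CommRingCat.of A))))
  haveI : (G A M).IsQuasicoherent := Scheme.Modules.isQuasicoherent_restrictFunctor _ _
  haveI : ((MRes.inj (G A M)).Z 0).IsQuasicoherent := ‹_›
  let K : Ideal A := LinearMap.ker (LinearMap.toSpanSingleton A (Coh.HH X (G A M) (q + 1)) x)
  suffices hK : maximalIdeal A ≤ K.radical by
    obtain ⟨n, hn⟩ := Ideal.exists_pow_le_of_le_radical_of_fg hK (IsNoetherian.noetherian (maximalIdeal A))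
    exact ⟨n, fun r hr => hn hr⟩
  intro f hf
  let f' : Γ(X, ⊤) := Coh.toGlobal (X ↘ Spec (CommRingCat.of A)) f
  have haff : IsAffineOpen (X.basicOpen f') := by
    rw [← Scheme.Hom.isAffineOpen_iff_of_isOpenImmersion (U A).ι]
    have hle : (PrimeSpectrum.basicOpen f : (Spec (CommRingCat.of A)).Opens) ≤ U A :=
      H4PSect.basicOpen_le_P (R := CommRingCat.of A) (maximalIdeal A) hf
    have he : X.basicOpen f' = (U A).ι ⁻¹ᵁ (PrimeSpectrum.basicOpen f) := by
      rw [← basicOpen_eq_of_affine (R := CommRingCat.of A) f, Scheme.preimage_basicOpen]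
      rfl
    rw [he, Scheme.Hom.image_preimage_eq_opensRange_inf, Scheme.Opens.opensRange_ι, inf_eq_right.2 hle]
    exact IsAffineOpen.Spec_basicOpen (R := CommRingCat.of A) f
  obtain ⟨N, hN⟩ := exists_pow_smul_eq_zero_of_resHH (MRes.inj (G A M)) f' (q + 1) x
    ((subsingleton_HnM_of_isAffineOpen _ haff q).elim _ _)
  refine ⟨N, ?_⟩
  refine Eq.trans ?_ hN
  exact congrArg (· • x) (map_pow (Coh.toGlobal (X ↘ Spec (CommRingCat.of A))) f N)

theorem isArtinian_HH : ∀ (q : ℕ) (M : ModuleCat.{u} A) [Module.Finite A M],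
    IsArtinian A (Coh.HH (U A) (G A M) (q + 1)) := by
  intro q
  induction q using Nat.strong_induction_on with
  | _ q ih =>
  intro M _
  let T := DRing.torsionSub (maximalIdeal A) M
  let S₀ : ShortComplex (ModuleCat.{u} A) := H4Depth.shortComplexOf T.subtype T.mkQ (LinearMap.exact_subtype_mkQ T)
  have hS₀ : S₀.ShortExact := H4Depth.shortComplexOf_shortExact _ _ T.injective_subtype T.mkQ_surjective _
  have hT0 : IsZero (seqG A S₀).X₁ := subsingleton_G_of_torsion A _ (H4LC.isPowerTorsion_torsionSub _ _)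
  haveI : IsIso (seqG A S₀).g := (shortExact_seqG A hS₀).isIso_g_iff.2 hT0
  let e : Coh.HH (U A) (G A M) (q + 1) ≃ₗ[A] Coh.HH (U A) (G A (ModuleCat.of A (M ⧸ T))) (q + 1) :=
    HHSeq.isoₗ (A := A) (asIso (seqG A S₀).g) (q + 1)
  obtain ⟨x, hx, hreg⟩ := H4LC.exists_regular_of_torsionSub_eq_bot
    (H4LC.torsionSub_quotient_eq_bot (maximalIdeal A) M)
  suffices h : IsArtinian A (Coh.HH (U A) (G A (ModuleCat.of A (M ⧸ T))) (q + 1)) from
    @isArtinian_of_linearEquiv _ _ _ _ _ _ _ _ e.symm h
  let N := ModuleCat.of A (M ⧸ T)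
  let f : (M ⧸ T) →ₗ[A] (M ⧸ T) := x • LinearMap.id
  let S₁ : ShortComplex (ModuleCat.{u} A) := H4Depth.shortComplexOf f (LinearMap.range f).mkQ
    (LinearMap.exact_map_mkQ_range f)
  have hS₁ : S₁.ShortExact := H4Depth.shortComplexOf_shortExact _ _
    (fun a b hab => hreg hab) (LinearMap.range f).mkQ_surjective _
  let δ := HHSeq.dlₗ (A := A) (shortExact_seqG A hS₁) q
  have hδ : IsArtinian A (LinearMap.range δ) := by
    cases q with
    | zero =>
      have := isArtinian_coker A (ModuleCat.of A ((M ⧸ T) ⧸ LinearMap.range f))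
      let π := LinearMap.range (τ A (ModuleCat.of A ((M ⧸ T) ⧸ LinearMap.range f)))
      refine isArtinian_of_surjective _ ((Submodule.liftQ π δ.rangeRestrict ?_)) ?_
      · rintro _ ⟨m, rfl⟩
        obtain ⟨n, rfl⟩ := (LinearMap.range f).mkQ_surjective m
        refine Subtype.ext ?_
        show dl (shortExact_seqG A hS₁) 0 (τ A _ ((ModuleCat.ofHom (LinearMap.range f).mkQ).hom n)) = 0
        exact (congrArg (dl (shortExact_seqG A hS₁) 0) (τ_natural A (M := ModuleCat.of A (M ⧸ T))
          (ModuleCat.ofHom (LinearMap.range f).mkQ) n).symm).trans (dl_Hm_g' (shortExact_seqG A hS₁) 0 _)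
      · rintro ⟨_, z, rfl⟩
        exact ⟨Submodule.Quotient.mk z, rfl⟩
    | succ q =>
      have := ih q (by omega) (ModuleCat.of A ((M ⧸ T) ⧸ LinearMap.range f))
      haveI : IsArtinian A (Coh.HH (U A) (seqG A S₁).X₃ (q + 1)) := this
      exact @isArtinian_of_surjective _ _ _ _ _ _ _ _ δ.rangeRestrict δ.surjective_rangeRestrict this
  refine H4Matlis.isArtinian_of_isArtinian_torsionBy (IsNoetherian.noetherian (maximalIdeal A))
    (isPowerTorsion_HH_succ A N q) ?_
  have hle : LocCoh.torsionBy (maximalIdeal A) (Coh.HH (U A) (G A N) (q + 1)) ≤ LinearMap.range δ := by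
    intro z hz
    refine HHSeq.exists_dl (shortExact_seqG A hS₁) q z ?_
    have hf : (seqG A S₁).f = Formal.smulMod A (G A N) x := seq_f_eq_smulMod A N x
    rw [hf]
    exact (Hm_smulMod (M := G A N) (q + 1) x z).trans ((Submodule.mem_torsionBySet_iff _ _).1 hz ⟨x, hx⟩)
  exact @isArtinian_of_injective _ _ _ _ _ _ _ _ (Submodule.inclusion hle) (Submodule.inclusion_injective hle) hδ

theorem isArtinian_HH_of_isCoh (F : (U A : Scheme.{u}).Modules) (hF : Coh.IsCoh F) (q : ℕ) :
    IsArtinian A (Coh.HH (U A) F (q + 1)) := by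
  haveI : IsNoetherianRing (CommRingCat.of A) := inferInstanceAs (IsNoetherianRing A)
  obtain ⟨N, hN, ⟨e⟩⟩ := exists_finite_tilde_restrict (R := CommRingCat.of A) (U A) F hF
  haveI : Module.Finite A N := hN
  have := isArtinian_HH A q N
  exact isArtinian_of_linearEquiv (HHSeq.isoₗ (A := A) e (q + 1)).symm

end Groth.Agent.H4Punct
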